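import Cfsg.Agent.Lib.Helper6.TCD.S82C.CS0
import Cfsg.Agent.Lib.Helper6.TCD.S82C.CN0
import Cfsg.Agent.Lib.Helper6.TCD.S82C.CC
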